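import Groth.Agent.EGA41FS.PowerSeries
import Groth.Agent.FSField.Basic
import Groth.Prelude.Def_CAlgX
import Mathlib.FieldTheory.Perfect

/-!
# Power series rings over fields are formally smooth over perfect fields for the adic topology
-/

set_option autoImplicit false

universe u

namespace Groth.Agent.PSSmooth

open MvPowerSeries

theorem isAdicFormallySmooth_mvPowerSeries (F K : Type u) [Field F] [Field K] [Algebra F K]
    [Algebra.FormallySmooth F K] (n : ℕ) :
    CAlgX.IsAdicFormallySmooth F (MvPowerSeries (Fin n) K)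
      (IsLocalRing.maximalIdeal (MvPowerSeries (Fin n) K)) := by
  intro A _ _ J hJ ψ ⟨k, hk⟩
  obtain ⟨g, hg⟩ := Algebra.FormallySmooth.comp_surjective F K J hJ
    (ψ.comp (IsScalarTower.toAlgHom F K (MvPowerSeries (Fin n) K)))
  letI := g.toRingHom.toAlgebra
  haveI : IsScalarTower F K A := IsScalarTower.of_algebraMap_eq fun c => (g.commutes c).symm
  let ψ' : MvPowerSeries (Fin n) K →ₐ[K] A ⧸ J :=
    { ψ.toRingHom with commutes' := fun c => (AlgHom.congr_fun hg c).symm }
  have hnilψ : ∀ i, IsNilpotent (ψ' (X i)) := fun i => ⟨k, by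
    rw [← map_pow]
    refine hk _ (Ideal.pow_mem_pow ?_ k)
    rw [IsLocalRing.mem_maximalIdeal, mem_nonunits_iff, MvPowerSeries.isUnit_iff_constantCoeff]
    simp⟩
  choose a ha using fun i => Ideal.Quotient.mk_surjective (ψ' (X i))
  have hnil : ∀ i, IsNilpotent (a i) := fun i => by
    obtain ⟨l, hl⟩ := hnilψ i
    refine ⟨l * 2, ?_⟩
    have h1 : a i ^ l ∈ J := by rw [← Ideal.Quotient.eq_zero_iff_mem, map_pow, ha, hl]
    have h2 := Ideal.pow_mem_pow h1 2
    rw [hJ, Ideal.mem_bot] at h2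
    rw [pow_mul, h2]
  refine ⟨(ArtPow.evalNil a hnil).restrictScalars F, ?_⟩
  have e : (Ideal.Quotient.mkₐ K J).comp (ArtPow.evalNil a hnil) = ψ' :=
    (EGA41FS.algHom_ext_nilpotent hnilψ fun i => by rw [AlgHom.comp_apply, ArtPow.evalNil_X, Ideal.Quotient.mkₐ_eq_mk, ha]).symm
  exact AlgHom.ext fun x => AlgHom.congr_fun e x

end Groth.Agent.PSSmooth
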